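import Mathlib

set_option autoImplicit false
universe u

open CategoryTheory MonoidalCategory
open scoped TensorProduct

namespace Groth.Agent.FlatShift8

theorem flat_of_shift {R : Type u} [CommRing R] {M P₁ P₂ P₃ : Type u}
    [AddCommGroup M] [Module R M] [AddCommGroup P₁] [Module R P₁] [AddCommGroup P₂] [Module R P₂]
    [AddCommGroup P₃] [Module R P₃] [Module.Flat R P₁]
    (a : P₁ →ₗ[R] M) (b : P₂ →ₗ[R] P₁) (c : P₃ →ₗ[R] P₂) (ha : Function.Surjective a)
    (hab : ∀ x, a (b x) = 0) (hbc : ∀ x, b (c x) = 0) (hex : ∀ x, a x = 0 → ∃ y, b y = x)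
    (htens : ∀ (I : Ideal R) (x : (R ⧸ I) ⊗[R] P₂), b.lTensor (R ⧸ I) x = 0 → ∃ y, c.lTensor (R ⧸ I) y = x) :
    Module.Flat R M := by
  rw [Module.Flat.iff_rTensor_injective']
  intro I
  rw [injective_iff_map_eq_zero]
  intro z hz
  let μ : ∀ (X : Type u) [AddCommGroup X] [Module R X], I ⊗[R] X →ₗ[R] X :=
    fun X _ _ => (TensorProduct.lid R X).toLinearMap ∘ₗ LinearMap.rTensor X I.subtype
  have hnat : ∀ {X Y : Type u} [AddCommGroup X] [Module R X] [AddCommGroup Y] [Module R Y] (f : X →ₗ[R] Y) (t : I ⊗[R] X),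
      μ Y (f.lTensor I t) = f (μ X t) := by
    intro X Y _ _ _ _ f t
    induction t using TensorProduct.induction_on with
    | zero => simp
    | tmul i x => simp [μ]
    | add p q hp hq => simp [hp, hq]
  have hmem : ∀ {X : Type u} [AddCommGroup X] [Module R X] (t : I ⊗[R] X), μ X t ∈ I • (⊤ : Submodule R X) := by
    intro X _ _ t
    induction t using TensorProduct.induction_on with
    | zero => simp
    | tmul i x => simpa [μ] using Submodule.smul_mem_smul i.2 Submodule.mem_top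
    | add p q hp hq => rw [map_add]; exact add_mem hp hq
  have hrange : ∀ {X : Type u} [AddCommGroup X] [Module R X] (x : X), x ∈ I • (⊤ : Submodule R X) → ∃ t, μ X t = x := by
    intro X _ _ x hx
    refine Submodule.smul_induction_on hx (fun r hr y _ => ⟨(⟨r, hr⟩ : I) ⊗ₜ y, by simp [μ]⟩) ?_
    rintro x y ⟨s, rfl⟩ ⟨t, rfl⟩
    exact ⟨s + t, map_add _ _ _⟩
  have hzero : ∀ {X : Type u} [AddCommGroup X] [Module R X] (x : X),
      Ideal.Quotient.mk I 1 ⊗ₜ[R] x = (0 : (R ⧸ I) ⊗[R] X) ↔ x ∈ I • (⊤ : Submodule R X) := by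
    intro X _ _ x
    rw [← (TensorProduct.quotTensorEquivQuotSMul X I).map_eq_zero_iff]
    simp
  obtain ⟨z₁, rfl⟩ := LinearMap.lTensor_surjective I ha z
  have hz' : μ M (a.lTensor I z₁) = 0 := by simp only [μ, LinearMap.comp_apply]; rw [hz, map_zero]
  rw [hnat] at hz'
  obtain ⟨w₂, hw₂⟩ := hex _ hz'
  obtain ⟨y, hy⟩ := htens I (Ideal.Quotient.mk I 1 ⊗ₜ w₂) (by
    rw [LinearMap.lTensor_tmul, hw₂, hzero]; exact hmem z₁)
  obtain ⟨w₃, rfl⟩ : ∃ w, Ideal.Quotient.mk I 1 ⊗ₜ[R] w = y := by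
    obtain ⟨w, hw⟩ := TensorProduct.mk_surjective R P₃ (R ⧸ I) Ideal.Quotient.mk_surjective y
    exact ⟨w, hw⟩
  rw [LinearMap.lTensor_tmul, ← sub_eq_zero, ← TensorProduct.tmul_sub, hzero] at hy
  obtain ⟨v, hv⟩ := hrange _ hy
  have hinj : Function.Injective (μ P₁) :=
    (TensorProduct.lid R P₁).injective.comp (Module.Flat.rTensor_preserves_injective_linearMap _ I.injective_subtype)
  have h1 : b.lTensor I (-v) = z₁ := hinj (by
    rw [hnat, map_neg, hv, map_neg, map_sub, hbc, zero_sub, neg_neg, hw₂])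
  rw [← h1, ← LinearMap.comp_apply, ← LinearMap.lTensor_comp]
  rw [show a ∘ₗ b = 0 from LinearMap.ext hab, LinearMap.lTensor_zero, LinearMap.zero_apply]

theorem flat_X0 (R : Type u) [CommRing R]
    (K : ChainComplex (ModuleCat.{u} R) ℕ) (hflat : Module.Flat R (K.X 1))
    (hK : K.Acyclic)
    (hbc : ∀ I : Ideal R,
      (((tensorLeft (ModuleCat.of R (R ⧸ I))).mapHomologicalComplex (ComplexShape.down ℕ)).obj K).Acyclic) :
    Module.Flat R (K.X 0) := by
  refine flat_of_shift (K.d 1 0).hom (K.d 2 1).hom (K.d 3 2).hom ?_ ?_ ?_ ?_ ?_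
  · intro x
    have h := (HomologicalComplex.exactAt_iff' K 1 0 0 (by simp) (by simp)).mp (hK 0)
    exact (ShortComplex.moduleCat_exact_iff _).mp h x (by show (K.d 0 0) x = 0; rw [K.shape 0 0 (by simp)]; rfl)
  · intro x
    rw [← LinearMap.comp_apply, ← ModuleCat.hom_comp, K.d_comp_d]; rfl
  · intro x
    rw [← LinearMap.comp_apply, ← ModuleCat.hom_comp, K.d_comp_d]; rfl
  · intro x hx
    have h := (HomologicalComplex.exactAt_iff' K 2 1 0 (by simp) (by simp)).mp (hK 1)
    exact (ShortComplex.moduleCat_exact_iff _).mp h x hx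
  · intro I x hx
    have h := (HomologicalComplex.exactAt_iff' (((tensorLeft (ModuleCat.of R (R ⧸ I))).mapHomologicalComplex (ComplexShape.down ℕ)).obj K) 3 2 1 (by simp) (by simp)).mp (hbc I 2)
    exact (ShortComplex.moduleCat_exact_iff _).mp h x hx

end Groth.Agent.FlatShift8
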